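import Groth.Agent.Lib.GrassPres27.Series
import Mathlib.Algebra.Polynomial.Degree.Lemmas
import Mathlib.Algebra.Polynomial.BigOperators
import Mathlib.Algebra.Module.Projective
import Mathlib.LinearAlgebra.Dimension.Constructions
import Mathlib.RingTheory.MvPolynomial.WeightedHomogeneous
import Mathlib.Data.Nat.Factorial.BigOperators

/-!
# `R[c_1, …, c_k]/(t_N, …, t_{N+k-1})`

The `t_j` are the coefficients of `1/(1 + c_1 X + ⋯ + c_k X^k)`.  The map `c_i ↦ (-1)^i e_i` makes
`R[x_1, …, x_k]` free over `R[c]` and sends `t_j` to the complete homogeneous polynomials.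
-/

set_option autoImplicit false

noncomputable section

universe u

open MvPolynomial RingTheory.Sequence

namespace GrothLib.GrassPres27

variable (R : Type u) [CommRing R] (k : ℕ)

/-- `1 + c_1 X + ⋯ + c_k X^k`. -/
def univE : PowerSeries (MvPolynomial (Fin k) R) :=
  1 + ∑ i : Fin k, PowerSeries.C (X i) * PowerSeries.X ^ ((i : ℕ) + 1)

theorem constantCoeff_univE : PowerSeries.constantCoeff (univE R k) = 1 := by
  simp [univE, map_sum]

theorem coeff_univE (i : Fin k) : PowerSeries.coeff ((i : ℕ) + 1) (univE R k) = X i := by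
  simp [univE, map_sum, PowerSeries.coeff_X_pow, PowerSeries.coeff_one, Fin.val_inj]

/-- The coefficients `t_m` of the inverse series. -/
def tc (m : ℕ) : MvPolynomial (Fin k) R := PowerSeries.coeff m (PowerSeries.invOfUnit (univE R k) 1)

/-- The ideal `(t_N, …, t_{N+k-1})`. -/
def tIdeal (N : ℕ) : Ideal (MvPolynomial (Fin k) R) :=
  Ideal.span (Set.range fun i : Fin k => tc R k (N + (i : ℕ)))

/-- `c_i ↦ (-1)^i e_i(x)`. -/
def phi : MvPolynomial (Fin k) R →ₐ[R] MvPolynomial (Fin k) R :=
  aeval fun i : Fin k => PowerSeries.coeff ((i : ℕ) + 1) (lin R k)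

theorem coeff_lin_of_gt {m : ℕ} (hm : k < m) : PowerSeries.coeff m (lin R k) = 0 := by
  let p : Polynomial (MvPolynomial (Fin k) R) := ∏ j : Fin k, (1 - Polynomial.C (X j) * Polynomial.X)
  have h : lin R k = (p : PowerSeries (MvPolynomial (Fin k) R)) := by
    rw [← Polynomial.coeToPowerSeries.ringHom_apply, map_prod]
    exact Finset.prod_congr rfl fun j _ => by simp
  rw [h, Polynomial.coeff_coe]
  refine Polynomial.coeff_eq_zero_of_natDegree_lt (lt_of_le_of_lt ?_ hm)
  refine (Polynomial.natDegree_prod_le _ _).trans ((Finset.sum_le_sum fun j _ => ?_).trans (le_of_eq (by simp) : ∑ _j : Fin k, 1 ≤ k))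
  exact (Polynomial.natDegree_sub_le _ _).trans (max_le (by simp) ((Polynomial.natDegree_C_mul_le _ _).trans Polynomial.natDegree_X_le))

theorem map_phi_univE : PowerSeries.map (phi R k).toRingHom (univE R k) = lin R k := by
  refine PowerSeries.ext fun m => ?_
  rw [PowerSeries.coeff_map]
  rcases Nat.eq_zero_or_pos m with rfl | hm
  · rw [PowerSeries.coeff_zero_eq_constantCoeff_apply, PowerSeries.coeff_zero_eq_constantCoeff_apply,
      constantCoeff_univE, constantCoeff_lin, map_one]
  by_cases hk : m ≤ k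
  · obtain ⟨i, rfl⟩ : ∃ i : Fin k, (i : ℕ) + 1 = m := ⟨⟨m - 1, by omega⟩, by simp; omega⟩
    rw [coeff_univE]
    exact aeval_X _ _
  · rw [coeff_lin_of_gt R k (by omega), univE, map_add, map_sum, PowerSeries.coeff_one, if_neg (by omega),
      zero_add, Finset.sum_eq_zero, map_zero]
    intro i _
    rw [PowerSeries.coeff_C_mul, PowerSeries.coeff_X_pow, if_neg (by omega), mul_zero]

theorem phi_tc (m : ℕ) : phi R k (tc R k m) = PowerSeries.coeff m (W (1 : PowerSeries R) k) := by
  suffices h : PowerSeries.map (phi R k).toRingHom (PowerSeries.invOfUnit (univE R k) 1) = W 1 k by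
    rw [← h, PowerSeries.coeff_map]; rfl
  have hu : IsUnit (lin R k) := by
    rw [PowerSeries.isUnit_iff_constantCoeff, constantCoeff_lin]; exact isUnit_one
  refine hu.mul_left_injective ?_
  change _ * lin R k = _ * lin R k
  rw [W_mul_lin, map_one]
  conv_lhs => rw [← map_phi_univE R k]
  rw [← map_mul, mul_comm, PowerSeries.mul_invOfUnit _ _ (by simp [constantCoeff_univE]), map_one]

theorem map_phi_tIdeal (N : ℕ) : (tIdeal R k N).map (phi R k) = Ideal.span (Set.range (tri (1 : PowerSeries R) k N)) := by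
  rw [tIdeal, Ideal.map_span, ← Set.range_comp, ← span_range_eq]
  congr 2
  funext i
  exact phi_tc R k _

/-- `R[c][x]` modulo the Artin relations. -/
abbrev Art : Type u :=
  MvPolynomial (Fin k) (MvPolynomial (Fin k) R) ⧸ Ideal.span (Set.range (tri (univE R k) k 1))

/-- `R[x] → R[c][x]/(Artin relations)`. -/
def toArt : MvPolynomial (Fin k) R →ₐ[R] Art R k :=
  aeval fun j => Ideal.Quotient.mk _ (X j)

theorem algebraMap_eq_toArt (s : MvPolynomial (Fin k) R) :
    algebraMap (MvPolynomial (Fin k) R) (Art R k) s = toArt R k (phi R k s) := by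
  suffices h : IsScalarTower.toAlgHom R (MvPolynomial (Fin k) R) (Art R k) = (toArt R k).comp (phi R k) from
    AlgHom.congr_fun h s
  refine MvPolynomial.algHom_ext fun i => ?_
  rw [AlgHom.comp_apply, phi, aeval_X, IsScalarTower.coe_toAlgHom']
  change Ideal.Quotient.mk _ (C (X i) : MvPolynomial (Fin k) (MvPolynomial (Fin k) R)) = _
  -- compare coefficients of `W * lin = univE`
  let q := Ideal.Quotient.mk (Ideal.span (Set.range (tri (univE R k) k 1)))
  have hlin : PowerSeries.map (toArt R k).toRingHom (lin R k) = PowerSeries.map q (lin (MvPolynomial (Fin k) R) k) := by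
    simp [lin, map_prod, toArt, q]
  have h := congrArg (fun z => PowerSeries.coeff ((i : ℕ) + 1) (PowerSeries.map q z)) (W_mul_lin (univE R k) k)
  simp only [map_mul] at h
  rw [← hlin, PowerSeries.coeff_map, PowerSeries.coeff_map, coeff_univE, PowerSeries.coeff_mul,
    Finset.sum_eq_single (0, (i : ℕ) + 1)] at h
  · rw [PowerSeries.coeff_map, PowerSeries.coeff_map, coeff_W_zero _ (constantCoeff_univE R k), map_one, one_mul] at h
    exact h.symm
  · rintro ⟨a, b⟩ hab hne
    rw [Finset.mem_antidiagonal] at hab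
    have ha : a ≠ 0 := fun h0 => hne (by subst h0; simp at hab; simp [hab])
    obtain ⟨j, rfl⟩ : ∃ j : Fin k, (j : ℕ) + 1 = a :=
      ⟨⟨a - 1, by have := i.2; omega⟩, by simp; omega⟩
    rw [PowerSeries.coeff_map, Ideal.Quotient.eq_zero_iff_mem.2, zero_mul]
    rw [← span_range_eq]
    exact Ideal.subset_span ⟨j, by simp [add_comm]⟩
  · intro h0; simp [Finset.mem_antidiagonal] at h0

theorem toArt_bijective [Nontrivial R] : Function.Bijective (toArt R k) := by
  let Ψ₀ : MvPolynomial (Fin k) (MvPolynomial (Fin k) R) →+* MvPolynomial (Fin k) R :=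
    eval₂Hom (phi R k).toRingHom X
  have hΨ : ∀ x ∈ Ideal.span (Set.range (tri (univE R k) k 1)), Ψ₀ x = 0 := by
    intro x hx
    rw [← span_range_eq] at hx
    refine RingHom.mem_ker.1 (Ideal.span_le.2 ?_ hx)
    rintro _ ⟨j, rfl⟩
    rw [SetLike.mem_coe, RingHom.mem_ker, ← PowerSeries.coeff_map]
    have hW : PowerSeries.map Ψ₀ (W (univE R k) k) = 1 := by
      have hu : IsUnit (lin R k) := by
        rw [PowerSeries.isUnit_iff_constantCoeff, constantCoeff_lin]; exact isUnit_one
      refine hu.mul_left_injective ?_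
      have hl : PowerSeries.map Ψ₀ (lin (MvPolynomial (Fin k) R) k) = lin R k := by
        simp [lin, map_prod, Ψ₀]
      change _ * lin R k = 1 * lin R k
      rw [one_mul]
      conv_lhs => rw [← hl, ← map_mul, W_mul_lin]
      conv_rhs => rw [← map_phi_univE R k]
      refine PowerSeries.ext fun m => ?_
      simp [Ψ₀]
    rw [hW, PowerSeries.coeff_one, if_neg (by omega)]
  let Ψ := Ideal.Quotient.lift _ Ψ₀ hΨ
  have h1 : ∀ p, Ψ (toArt R k p) = p := by
    intro p
    induction p using MvPolynomial.induction_on with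
    | C a =>
      rw [toArt, aeval_C]
      change Ψ₀ (C (C a)) = C a
      simp [Ψ₀]
    | add p q hp hq => rw [map_add, map_add, hp, hq]
    | mul_X p i hp =>
      rw [map_mul, map_mul, hp, toArt, aeval_X]
      change p * Ψ₀ (X i) = _
      simp [Ψ₀]
  refine ⟨Function.LeftInverse.injective h1, fun y => ?_⟩
  obtain ⟨y, rfl⟩ := Ideal.Quotient.mk_surjective y
  induction y using MvPolynomial.induction_on with
  | C a => exact ⟨phi R k a, (algebraMap_eq_toArt R k a).symm⟩
  | add p q hp hq =>
    obtain ⟨p', hp'⟩ := hp; obtain ⟨q', hq'⟩ := hq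
    exact ⟨p' + q', by rw [map_add, map_add, hp', hq']⟩
  | mul_X p i hp =>
    obtain ⟨p', hp'⟩ := hp
    exact ⟨p' * X i, by rw [map_mul, map_mul, hp', toArt, aeval_X]⟩

/-- The standard exponent set. -/
abbrev Exps : Type := ∀ i : Fin k, Fin (1 + (i : ℕ))

theorem exists_artBasis [Nontrivial R] :
    ∃ b : Module.Basis (Exps k) (MvPolynomial (Fin k) R) (Art R k), ∀ a, b a = toArt R k (stdMon a) := by
  obtain ⟨b, hb⟩ := (isTri_tri (univE R k) (constantCoeff_univE R k) k 1).exists_basis
  exact ⟨b, fun a => by simp [hb, toArt, stdMon, map_prod]⟩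

variable [Nontrivial R]

theorem coord_mem (b : Module.Basis (Exps k) (MvPolynomial (Fin k) R) (Art R k)) (N : ℕ) (a : Exps k)
    {q : Art R k} (hq : q ∈ (tIdeal R k N).map (algebraMap _ (Art R k))) : b.coord a q ∈ tIdeal R k N := by
  have hq' : q ∈ (tIdeal R k N • ⊤ : Submodule (MvPolynomial (Fin k) R) (Art R k)) := by
    rw [Ideal.smul_top_eq_map]; exact hq
  refine Submodule.smul_induction_on hq' (fun r hr m _ => ?_) fun x y hx hy => ?_
  · rw [map_smul, smul_eq_mul]; exact Ideal.mul_mem_right _ _ hr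
  · rw [map_add]; exact Ideal.add_mem _ hx hy

theorem map_algebraMap_tIdeal (N : ℕ) : (tIdeal R k N).map (algebraMap _ (Art R k)) =
    (Ideal.span (Set.range (tri (1 : PowerSeries R) k N))).map (toArt R k) := by
  rw [← map_phi_tIdeal, tIdeal]
  simp only [Ideal.map_span, ← Set.range_comp]
  congr 2
  funext i
  exact algebraMap_eq_toArt R k _

theorem toArt_mem_iff (N : ℕ) (p : MvPolynomial (Fin k) R) :
    toArt R k p ∈ (tIdeal R k N).map (algebraMap _ (Art R k)) ↔
      p ∈ Ideal.span (Set.range (tri (1 : PowerSeries R) k N)) := by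
  rw [map_algebraMap_tIdeal]
  refine ⟨fun h => ?_, Ideal.mem_map_of_mem _⟩
  obtain ⟨x, hx, hxp⟩ := (Ideal.mem_map_iff_of_surjective _ (toArt_bijective R k).2).1 h
  exact (toArt_bijective R k).1 hxp ▸ hx

theorem isWeaklyRegular_tc (N : ℕ) :
    IsWeaklyRegular (MvPolynomial (Fin k) R) (List.ofFn fun i : Fin k => tc R k (N + (i : ℕ))) := by
  obtain ⟨b, hb⟩ := exists_artBasis R k
  let a₀ : Exps k := fun i => ⟨0, by omega⟩
  have h0 : b a₀ = 1 := by simp [hb, stdMon, a₀]
  refine isWeaklyRegular_of_retract _ (Algebra.linearMap _ (Art R k)) (b.coord a₀)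
    (LinearMap.ext_ring ?_) ?_
  · rw [LinearMap.comp_apply, Algebra.linearMap_apply, map_one, ← h0]
    simp
  · rw [← isWeaklyRegular_map_algebraMap_iff (Art R k), List.map_ofFn]
    let e := AlgEquiv.ofBijective (toArt R k) (toArt_bijective R k)
    refine ((e.toRingEquiv.toAddEquiv.isWeaklyRegular_congr ?_)).1
      (isWeaklyRegular_coeff_W (1 : PowerSeries R) (by simp) k N)
    refine List.forall₂_iff_get.2 ⟨by simp, fun j h₁ h₂ x => ?_⟩
    simp only [List.get_eq_getElem, List.getElem_ofFn, Function.comp_apply, algebraMap_eq_toArt, phi_tc]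
    exact map_mul e _ _

/-- The sum of the standard exponents. -/
def deg {d : Fin k → ℕ} (a : ∀ i, Fin (d i)) : ℕ := ∑ i, (a i : ℕ)

theorem isHomogeneous_stdMon {d : Fin k → ℕ} (a : ∀ i, Fin (d i)) :
    (stdMon a : MvPolynomial (Fin k) R).IsHomogeneous (deg k a) :=
  IsHomogeneous.prod _ _ _ fun i _ => by simpa using (isHomogeneous_X R i).pow (a i : ℕ)

theorem component_mem (N D : ℕ) {f : MvPolynomial (Fin k) R}
    (hf : f ∈ Ideal.span (Set.range (tri (1 : PowerSeries R) k N))) :
    homogeneousComponent D f ∈ Ideal.span (Set.range (tri (1 : PowerSeries R) k N)) := by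
  obtain ⟨c, rfl⟩ := (Submodule.mem_span_range_iff_exists_fun _).1 hf
  rw [map_sum]
  refine Submodule.sum_mem _ fun i _ => ?_
  rw [smul_eq_mul]
  rw [← sum_homogeneousComponent (c i), Finset.sum_mul, map_sum]
  refine Submodule.sum_mem _ fun l _ => ?_
  rw [homogeneousComponent_of_mem ((homogeneousComponent_isHomogeneous l (c i)).mul (isHomogeneous_tri k N i))]
  split_ifs with h
  · exact Ideal.mul_mem_left _ _ (Ideal.subset_span ⟨i, rfl⟩)
  · exact Ideal.zero_mem _

theorem mem_of_degree_gt {N D : ℕ} (hD : ∀ a : ∀ i : Fin k, Fin (N + (i : ℕ)), deg k a < D)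
    {f : MvPolynomial (Fin k) R} (hf : f.IsHomogeneous D) :
    f ∈ Ideal.span (Set.range (tri (1 : PowerSeries R) k N)) := by
  obtain ⟨b, hb⟩ := (isTri_tri (1 : PowerSeries R) (by simp) k N).exists_basis
  have h : f - ∑ a, b.repr (Ideal.Quotient.mk _ f) a • stdMon a ∈
      Ideal.span (Set.range (tri (1 : PowerSeries R) k N)) := by
    rw [← Ideal.Quotient.eq]
    conv_lhs => rw [← b.sum_repr (Ideal.Quotient.mk _ f)]
    simp only [hb, map_sum]
    rfl
  have h1 := component_mem R k N D h
  rw [map_sub, map_sum, Finset.sum_eq_zero, sub_zero, homogeneousComponent_of_mem hf, if_pos rfl] at h1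
  · exact h1
  · intro a _
    rw [map_smul, homogeneousComponent_of_mem (isHomogeneous_stdMon R k a), if_neg (hD a).ne', smul_zero]

theorem isHomogeneous_coeff_lin : ∀ k m : ℕ, (PowerSeries.coeff m (lin R k)).IsHomogeneous m := by
  intro k
  induction k with
  | zero =>
    intro m
    rw [lin, Finset.univ_eq_empty, Finset.prod_empty, PowerSeries.coeff_one]
    split_ifs with h
    · subst h; exact isHomogeneous_one _ _
    · exact isHomogeneous_zero _ _ _
  | succ k ih =>
    intro m
    have hlin : lin R (k + 1) = (1 - PowerSeries.C (X 0) * PowerSeries.X) *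
        PowerSeries.map (rename Fin.succ : MvPolynomial (Fin k) R →ₐ[R] _).toRingHom (lin R k) := by
      simp [lin, Fin.prod_univ_succ, map_prod]
    rw [hlin, sub_mul, one_mul, mul_assoc, map_sub, PowerSeries.coeff_map, PowerSeries.coeff_C_mul]
    refine (ih m).rename_isHomogeneous.sub ?_
    cases m with
    | zero => simp [isHomogeneous_zero]
    | succ m =>
      rw [PowerSeries.coeff_succ_X_mul, PowerSeries.coeff_map]
      simpa [add_comm 1 m] using (isHomogeneous_X R 0).mul (ih m).rename_isHomogeneous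

theorem isHomogeneous_phi_monomial (e : Fin k →₀ ℕ) (r : R) :
    (phi R k (monomial e r)).IsHomogeneous (Finsupp.weight (fun i : Fin k => (i : ℕ) + 1) e) := by
  rw [phi, aeval_monomial, Finsupp.weight_apply, Finsupp.prod, Finsupp.sum]
  refine IsHomogeneous.C_mul (IsHomogeneous.prod _ _ _ fun i _ => ?_) r
  simpa [mul_comm] using (isHomogeneous_coeff_lin R k ((i : ℕ) + 1)).pow (e i)

theorem isHomogeneous_phi {u : ℕ} {s : MvPolynomial (Fin k) R}
    (hs : s.IsWeightedHomogeneous (fun i : Fin k => (i : ℕ) + 1) u) : (phi R k s).IsHomogeneous u := by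
  rw [as_sum s, map_sum]
  refine IsHomogeneous.sum _ _ _ fun e he => ?_
  rw [← hs (mem_support_iff.1 he)]
  exact isHomogeneous_phi_monomial R k e _

theorem mem_tIdeal_of_weight_gt {N u : ℕ} (hN : 1 ≤ N) (hu : k * (N - 1) < u) {s : MvPolynomial (Fin k) R}
    (hs : s.IsWeightedHomogeneous (fun i : Fin k => (i : ℕ) + 1) u) : s ∈ tIdeal R k N := by
  obtain ⟨b, hb⟩ := exists_artBasis R k
  let δ : Exps k := fun i => ⟨i, by omega⟩
  have h := mem_of_degree_gt R k (N := N) (D := u + deg k δ) (fun a => by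
      have h1 : deg k a ≤ ∑ i : Fin k, ((N - 1) + (i : ℕ)) :=
        Finset.sum_le_sum fun i _ => by have := (a i).2; omega
      rw [Finset.sum_add_distrib, Finset.sum_const, Finset.card_univ, Fintype.card_fin, smul_eq_mul] at h1
      have h2 : deg k δ = ∑ i : Fin k, (i : ℕ) := rfl
      omega)
    ((isHomogeneous_phi R k hs).mul (isHomogeneous_stdMon R k δ))
  have h2 := coord_mem R k b N δ ((toArt_mem_iff R k N _).2 h)
  rwa [map_mul, ← algebraMap_eq_toArt, ← hb, ← Algebra.smul_def, map_smul, Module.Basis.coord_apply,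
    Module.Basis.repr_self, Finsupp.single_eq_same, smul_eq_mul, mul_one] at h2

theorem exists_weight_top_not_mem {N : ℕ} (hN : 1 ≤ N) :
    ∃ s : MvPolynomial (Fin k) R, s.IsWeightedHomogeneous (fun i : Fin k => (i : ℕ) + 1) (k * (N - 1)) ∧
      s ∉ tIdeal R k N := by
  by_contra hall
  push Not at hall
  have hge : ∀ u, k * (N - 1) ≤ u → ∀ s : MvPolynomial (Fin k) R,
      s.IsWeightedHomogeneous (fun i : Fin k => (i : ℕ) + 1) u → s ∈ tIdeal R k N := by
    intro u hu s hs
    rcases eq_or_lt_of_le hu with rfl | hlt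
    · exact hall s hs
    · exact mem_tIdeal_of_weight_gt R k hN hlt hs
  obtain ⟨b, hb⟩ := exists_artBasis R k
  obtain ⟨β, hβ⟩ := (isTri_tri (1 : PowerSeries R) (by simp) k N).exists_basis
  let top : ∀ i : Fin k, Fin (N + (i : ℕ)) := fun i => ⟨N - 1 + i, by omega⟩
  let D := deg k top
  have hD : D = k * (N - 1) + ∑ i : Fin k, (i : ℕ) := by
    simp [D, deg, top, Finset.sum_add_distrib]
  refine β.ne_zero top ?_
  rw [hβ, Ideal.Quotient.eq_zero_iff_mem]
  let f : MvPolynomial (Fin k) R := stdMon top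
  have hsum : f = ∑ a, phi R k (b.repr (toArt R k f) a) * stdMon a := by
    apply (toArt_bijective R k).1
    conv_lhs => rw [← b.sum_repr (toArt R k f)]
    rw [map_sum]
    refine Finset.sum_congr rfl fun a _ => ?_
    rw [map_mul, ← algebraMap_eq_toArt, ← hb]
    exact Algebra.smul_def (R := MvPolynomial (Fin k) R) (A := Art R k) _ _
  have hf : homogeneousComponent D f = f := by
    rw [homogeneousComponent_of_mem (isHomogeneous_stdMon R k top), if_pos rfl]
  change f ∈ _
  rw [← hf, hsum, map_sum]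
  refine Submodule.sum_mem _ fun a _ => ?_
  have hdega : deg k a ≤ ∑ i : Fin k, (i : ℕ) := Finset.sum_le_sum fun i _ => by have := (a i).2; omega
  generalize b.repr (toArt R k f) a = c
  induction c using MvPolynomial.induction_on' with
  | monomial e r =>
    rw [homogeneousComponent_of_mem ((isHomogeneous_phi_monomial R k e r).mul (isHomogeneous_stdMon R k a))]
    split_ifs with h
    · refine Ideal.mul_mem_right _ _ ?_
      rw [← map_phi_tIdeal]
      exact Ideal.mem_map_of_mem _ (hge _ (by omega) _ (isWeightedHomogeneous_monomial _ _ _ rfl))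
    · exact Ideal.zero_mem _
  | add p q hp hq => rw [map_add, add_mul, map_add]; exact Ideal.add_mem _ hp hq

theorem finite_projective_finrank (N : ℕ) [StrongRankCondition R] :
    Module.Finite R (MvPolynomial (Fin k) R ⧸ tIdeal R k N) ∧
      Module.Projective R (MvPolynomial (Fin k) R ⧸ tIdeal R k N) ∧
      (Module.Free R (MvPolynomial (Fin k) R ⧸ tIdeal R k N) →
        k.factorial * Module.finrank R (MvPolynomial (Fin k) R ⧸ tIdeal R k N) = ∏ i : Fin k, (N + (i : ℕ))) := by
  obtain ⟨b, hb⟩ := exists_artBasis R k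
  obtain ⟨β, -⟩ := (isTri_tri (1 : PowerSeries R) (by simp) k N).exists_basis
  let J := (tIdeal R k N).map (algebraMap _ (Art R k))
  let e : (MvPolynomial (Fin k) R ⧸ Ideal.span (Set.range (tri (1 : PowerSeries R) k N))) ≃ₐ[R] (Art R k ⧸ J) :=
    Ideal.quotientEquivAlg _ _ (AlgEquiv.ofBijective (toArt R k) (toArt_bijective R k))
      (map_algebraMap_tIdeal R k N)
  let co : Exps k → (Art R k →ₗ[R] MvPolynomial (Fin k) R ⧸ tIdeal R k N) := fun a =>
    ((Ideal.Quotient.mkₐ R (tIdeal R k N)).toLinearMap).comp ((b.coord a).restrictScalars R)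
  let L : Art R k →ₗ[R] (Exps k → MvPolynomial (Fin k) R ⧸ tIdeal R k N) := LinearMap.pi co
  have hL : Function.Surjective L := by
    intro v
    choose w hw using fun a => Ideal.Quotient.mk_surjective (v a)
    refine ⟨b.equivFun.symm w, funext fun a => ?_⟩
    change Ideal.Quotient.mk _ (b.equivFun (b.equivFun.symm w) a) = _
    rw [LinearEquiv.apply_symm_apply, hw]
  have hker : LinearMap.ker L = J.restrictScalars R := by
    ext q
    constructor
    · intro hq
      change q ∈ J
      rw [← b.sum_repr q]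
      refine Submodule.sum_mem _ fun a _ => ?_
      rw [show (b.repr q) a • b a = algebraMap (MvPolynomial (Fin k) R) (Art R k) (b.repr q a) * b a from
        Algebra.smul_def (R := MvPolynomial (Fin k) R) (A := Art R k) _ _]
      refine Ideal.mul_mem_right _ _ (Ideal.mem_map_of_mem _ ?_)
      exact Ideal.Quotient.eq_zero_iff_mem.1 (congrFun (LinearMap.mem_ker.1 hq) a)
    · intro hq
      exact LinearMap.mem_ker.2 (funext fun a => Ideal.Quotient.eq_zero_iff_mem.2 (coord_mem R k b N a hq))
  let Q : (Art R k ⧸ J) ≃ₗ[R] (Exps k → MvPolynomial (Fin k) R ⧸ tIdeal R k N) :=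
    ((Submodule.Quotient.restrictScalarsEquiv R J).symm.trans (Submodule.quotEquivOfEq _ _ hker.symm)).trans
      (LinearMap.quotKerEquivOfSurjective L hL)
  haveI : Module.Free R (Art R k ⧸ J) := Module.Free.of_basis (β.map e.toLinearEquiv)
  haveI : Module.Finite R (Art R k ⧸ J) := Module.Finite.of_basis (β.map e.toLinearEquiv)
  haveI : Module.Finite R (Exps k → MvPolynomial (Fin k) R ⧸ tIdeal R k N) := Module.Finite.equiv Q
  haveI : Module.Projective R (Exps k → MvPolynomial (Fin k) R ⧸ tIdeal R k N) := Module.Projective.of_equiv Q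
  let a₀ : Exps k := fun i => ⟨0, by omega⟩
  have hfin : Module.Finite R (MvPolynomial (Fin k) R ⧸ tIdeal R k N) :=
    Module.Finite.of_surjective (LinearMap.proj a₀ : (Exps k → _) →ₗ[R] _)
      fun v => ⟨fun _ => v, rfl⟩
  refine ⟨hfin, Module.Projective.of_split (LinearMap.single R (fun _ : Exps k => _) a₀) (LinearMap.proj a₀)
    (LinearMap.ext fun v => Pi.single_eq_same (M := fun _ : Exps k => MvPolynomial (Fin k) R ⧸ tIdeal R k N) a₀ v), fun hfree => ?_⟩
  have h1 := (e.toLinearEquiv.trans Q).finrank_eq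
  rw [Module.finrank_pi_fintype, Module.finrank_eq_card_basis β, Finset.sum_const, Finset.card_univ,
    Fintype.card_pi, Fintype.card_pi, smul_eq_mul] at h1
  simp only [Fintype.card_fin] at h1
  rw [h1]
  congr 1
  rw [Fin.prod_univ_eq_prod_range (fun i => 1 + i) k, ← Finset.prod_range_add_one_eq_factorial]
  exact Finset.prod_congr rfl fun i _ => add_comm i 1

theorem prod_eq (n : ℕ) (hkn : k ≤ n) :
    ∏ i : Fin k, (n - k + 1 + (i : ℕ)) = k.factorial * n.choose k := by
  rw [Fin.prod_univ_eq_prod_range (fun i => n - k + 1 + i) k, ← Nat.ascFactorial_eq_prod_range,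
    Nat.ascFactorial_eq_factorial_mul_choose, Nat.sub_add_cancel hkn]

end GrothLib.GrassPres27
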