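import Groth.Agent.Lib.GrassPres27.Tri
import Mathlib.RingTheory.PowerSeries.Inverse
import Mathlib.RingTheory.MvPolynomial.Homogeneous
import Mathlib.Algebra.Polynomial.Monic

/-!
# Complete homogeneous functions in the last variables

`W E k` is the series `E / ∏ (1 - x_j X)` and `tri E k N i` is its analogue at index `N + i` in the
variables from `i` on.  The latter form a triangular system with the same prefix ideals as the
coefficients `N, N + 1, …` of `W E k`.
-/

set_option autoImplicit false

noncomputable section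

universe u

open MvPolynomial RingTheory.Sequence

namespace GrothLib.GrassPres27

variable {T : Type u} [CommRing T] (E : PowerSeries T)

/-- `∏ (1 - x_j X)`. -/
def lin (T : Type u) [CommRing T] (k : ℕ) : PowerSeries (MvPolynomial (Fin k) T) :=
  ∏ j : Fin k, (1 - PowerSeries.C (X j) * PowerSeries.X)

theorem constantCoeff_lin (k : ℕ) : PowerSeries.constantCoeff (lin T k) = 1 := by
  simp [lin, map_prod]

/-- `E / ∏ (1 - x_j X)`. -/
def W (k : ℕ) : PowerSeries (MvPolynomial (Fin k) T) :=
  PowerSeries.map C E * PowerSeries.invOfUnit (lin T k) 1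

theorem W_mul_lin (k : ℕ) : W E k * lin T k = PowerSeries.map C E := by
  rw [W, mul_assoc, mul_comm (PowerSeries.invOfUnit _ _), PowerSeries.mul_invOfUnit _ _ (by simp [constantCoeff_lin]),
    mul_one]

theorem W_succ_mul (k : ℕ) :
    W E (k + 1) * (1 - PowerSeries.C (X 0) * PowerSeries.X) =
      PowerSeries.map (rename Fin.succ : MvPolynomial (Fin k) T →ₐ[T] _).toRingHom (W E k) := by
  set r := (rename Fin.succ : MvPolynomial (Fin k) T →ₐ[T] MvPolynomial (Fin (k + 1)) T).toRingHom
  have hlin : lin T (k + 1) =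
      (1 - PowerSeries.C (X 0) * PowerSeries.X) * PowerSeries.map r (lin T k) := by
    simp [lin, r, Fin.prod_univ_succ, map_prod]
  have hu : IsUnit (PowerSeries.map r (lin T k)) := by
    rw [PowerSeries.isUnit_iff_constantCoeff, ← PowerSeries.coeff_zero_eq_constantCoeff_apply,
      PowerSeries.coeff_map, PowerSeries.coeff_zero_eq_constantCoeff_apply, constantCoeff_lin, map_one]
    exact isUnit_one
  refine hu.mul_left_injective ?_
  change _ * PowerSeries.map r (lin T k) = _ * PowerSeries.map r (lin T k)
  rw [mul_assoc, ← hlin, W_mul_lin, ← map_mul, W_mul_lin]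
  refine PowerSeries.ext fun n => ?_
  simp [r]

theorem coeff_W_succ (k m : ℕ) :
    PowerSeries.coeff (m + 1) (W E (k + 1)) =
      rename Fin.succ (PowerSeries.coeff (m + 1) (W E k)) + X 0 * PowerSeries.coeff m (W E (k + 1)) := by
  have h := congrArg (PowerSeries.coeff (m + 1)) (W_succ_mul E k)
  rw [PowerSeries.coeff_map, mul_sub, mul_one, map_sub, ← mul_assoc, PowerSeries.coeff_succ_mul_X,
    mul_comm (W E (k + 1)), PowerSeries.coeff_C_mul] at h
  exact sub_eq_iff_eq_add.1 h

theorem coeff_W_zero (hE : PowerSeries.constantCoeff E = 1) (k : ℕ) : PowerSeries.coeff 0 (W E k) = 1 := by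
  have hE' : PowerSeries.constantCoeff (PowerSeries.map (C : T →+* MvPolynomial (Fin k) T) E) = 1 := by
    rw [← PowerSeries.coeff_zero_eq_constantCoeff_apply, PowerSeries.coeff_map,
      PowerSeries.coeff_zero_eq_constantCoeff_apply, hE, map_one]
  simp [W, PowerSeries.constantCoeff_invOfUnit, hE']

theorem monic_coeff_W [Nontrivial T] (hE : PowerSeries.constantCoeff E = 1) (k : ℕ) : ∀ m : ℕ,
    (finSuccEquiv T k (PowerSeries.coeff m (W E (k + 1)))).Monic ∧
      (finSuccEquiv T k (PowerSeries.coeff m (W E (k + 1)))).natDegree = m := by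
  intro m
  induction m with
  | zero => rw [coeff_W_zero E hE, map_one]; exact ⟨Polynomial.monic_one, Polynomial.natDegree_one⟩
  | succ m ih =>
    rw [coeff_W_succ, map_add, map_mul, rename_succ_eq, finSuccEquiv_X_zero]
    obtain ⟨h1, h2⟩ := ih
    have h3 := Polynomial.monic_X.mul h1
    have h4 := Polynomial.monic_X.natDegree_mul h1
    rw [Polynomial.natDegree_X, h2, add_comm 1 m] at h4
    have hlt : (Polynomial.C (PowerSeries.coeff (m + 1) (W E k))).degree <
        (Polynomial.X * finSuccEquiv T k (PowerSeries.coeff m (W E (k + 1)))).degree := by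
      refine Polynomial.degree_C_le.trans_lt ?_
      rw [Polynomial.degree_eq_natDegree h3.ne_zero, h4]
      exact_mod_cast Nat.succ_pos m
    refine ⟨h3.add_of_right hlt, ?_⟩
    rw [Polynomial.natDegree_add_eq_right_of_degree_lt hlt, h4]

/-- The triangular system with the same prefix ideals as the coefficients `N, N + 1, …` of `W E k`. -/
def tri : ∀ (k N : ℕ), Fin k → MvPolynomial (Fin k) T
  | 0, _ => fun i => i.elim0
  | k + 1, N => Fin.cons (PowerSeries.coeff N (W E (k + 1))) fun i => rename Fin.succ (tri k (N + 1) i)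

theorem isTri_tri [Nontrivial T] (hE : PowerSeries.constantCoeff E = 1) : ∀ (k N : ℕ),
    IsTri k (fun i => N + (i : ℕ)) (tri E k N) := by
  intro k
  induction k with
  | zero => intro N; trivial
  | succ k ih =>
    intro N
    refine ⟨?_, ?_, tri E k (N + 1), ?_, fun i => by simp [tri]⟩
    · simpa [tri] using (monic_coeff_W E hE k N).1
    · simpa [tri] using (monic_coeff_W E hE k N).2
    · have : (fun i : Fin k => N + 1 + (i : ℕ)) = fun i : Fin k => N + ((i.succ : Fin (k + 1)) : ℕ) := by
        funext i; simp; omega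
      rw [← this]
      exact ih _

theorem sub_mem : ∀ (k N : ℕ) (i : Fin k),
    PowerSeries.coeff (N + i) (W E k) - tri E k N i ∈ Ideal.span (tri E k N '' {l | l < i}) := by
  intro k
  induction k with
  | zero => intro N i; exact i.elim0
  | succ k ih =>
    intro N i
    induction i using Fin.induction with
    | zero => simp [tri]
    | succ i hi =>
      have h1 : PowerSeries.coeff (N + (i : ℕ)) (W E (k + 1)) ∈
          Ideal.span (tri E (k + 1) N '' {l | l < i.succ}) := by
        have hsub := Ideal.span_mono (Set.image_mono (f := tri E (k + 1) N)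
          (show {l | l < i.castSucc} ⊆ {l | l < i.succ} from fun l hl => lt_trans hl Fin.castSucc_lt_succ)) hi
        have hf : tri E (k + 1) N i.castSucc ∈ Ideal.span (tri E (k + 1) N '' {l | l < i.succ}) :=
          Ideal.subset_span ⟨_, Fin.castSucc_lt_succ, rfl⟩
        simpa using Ideal.add_mem _ hsub hf
      have h2 : rename Fin.succ (PowerSeries.coeff (N + 1 + (i : ℕ)) (W E k) - tri E k (N + 1) i) ∈
          Ideal.span (tri E (k + 1) N '' {l | l < i.succ}) := by
        have := Ideal.mem_map_of_mem (rename Fin.succ : MvPolynomial (Fin k) T →ₐ[T] _) (ih (N + 1) i)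
        rw [Ideal.map_span] at this
        refine Ideal.span_mono ?_ this
        rintro _ ⟨_, ⟨l, hl, rfl⟩, rfl⟩
        exact ⟨l.succ, Fin.succ_lt_succ_iff.2 hl, by simp [tri]⟩
      have h3 := Ideal.add_mem _ h2 (Ideal.mul_mem_left _ (X 0) h1)
      convert h3 using 1
      rw [map_sub, show N + ((i.succ : Fin (k + 1)) : ℕ) = N + (i : ℕ) + 1 by simp; omega, coeff_W_succ,
        show N + 1 + (i : ℕ) = N + (i : ℕ) + 1 by omega,
        show tri E (k + 1) N i.succ = rename Fin.succ (tri E k (N + 1) i) by simp [tri]]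
      ring

theorem span_prefix_eq (k N : ℕ) : ∀ j : ℕ,
    Ideal.span ((fun l : Fin k => PowerSeries.coeff (N + l) (W E k)) '' {l | (l : ℕ) < j}) =
      Ideal.span (tri E k N '' {l | (l : ℕ) < j}) := by
  intro j
  induction j with
  | zero => simp
  | succ j ih =>
    by_cases hj : j < k
    · have hset : {l : Fin k | (l : ℕ) < j + 1} = insert ⟨j, hj⟩ {l : Fin k | (l : ℕ) < j} := by
        ext l; simp [Fin.ext_iff]; omega
      rw [hset, Set.image_insert_eq, Set.image_insert_eq, Ideal.span_insert, Ideal.span_insert, ih]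
      have h : PowerSeries.coeff (N + j) (W E k) - tri E k N ⟨j, hj⟩ ∈
          Ideal.span (tri E k N '' {l | (l : ℕ) < j}) := sub_mem E k N ⟨j, hj⟩
      refine le_antisymm (sup_le ?_ le_sup_right) (sup_le ?_ le_sup_right) <;>
        rw [Ideal.span_singleton_le_iff_mem]
      · have := Submodule.add_mem_sup (Ideal.mem_span_singleton_self (tri E k N ⟨j, hj⟩)) h
        simpa using this
      · have := Submodule.add_mem_sup (Ideal.mem_span_singleton_self (PowerSeries.coeff (N + j) (W E k)))
          (Submodule.neg_mem _ h)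
        simpa using this
    · have hset : {l : Fin k | (l : ℕ) < j + 1} = {l : Fin k | (l : ℕ) < j} := by
        ext l; have := l.2; simp; omega
      rw [hset, ih]

theorem span_range_eq (k N : ℕ) :
    Ideal.span (Set.range fun l : Fin k => PowerSeries.coeff (N + l) (W E k)) =
      Ideal.span (Set.range (tri E k N)) := by
  have h := span_prefix_eq E k N k
  have hset : {l : Fin k | (l : ℕ) < k} = Set.univ := by ext l; simp [l.2]
  rwa [hset, Set.image_univ, Set.image_univ] at h

theorem ofList_take {R : Type u} [CommRing R] {k : ℕ} (f : Fin k → R) (i : ℕ) :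
    Ideal.ofList ((List.ofFn f).take i) = Ideal.span (f '' {l | (l : ℕ) < i}) := by
  rw [Ideal.ofList]
  congr 1
  ext r
  simp only [Set.mem_ofPred_eq, List.mem_take_iff_getElem, List.getElem_ofFn, Set.mem_image,
    List.length_ofFn, lt_min_iff]
  constructor
  · rintro ⟨j, hj, rfl⟩; exact ⟨⟨j, hj.2⟩, hj.1, rfl⟩
  · rintro ⟨l, hl, rfl⟩; exact ⟨l, ⟨hl, l.2⟩, rfl⟩

theorem isWeaklyRegular_coeff_W [Nontrivial T] (hE : PowerSeries.constantCoeff E = 1) (k N : ℕ) :
    IsWeaklyRegular (MvPolynomial (Fin k) T)
      (List.ofFn fun l : Fin k => PowerSeries.coeff (N + l) (W E k)) := by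
  have h := (isTri_tri E hE k N).isWeaklyRegular
  rw [isWeaklyRegular_iff_Fin] at h ⊢
  rintro ⟨i, hi⟩
  have hi' : i < k := by simpa using hi
  have h0 := h ⟨i, by simpa using hi'⟩
  have e1 : Ideal.ofList ((List.ofFn fun l : Fin k => PowerSeries.coeff (N + l) (W E k)).take i) =
      Ideal.ofList ((List.ofFn (tri E k N)).take i) := by rw [ofList_take, ofList_take, span_prefix_eq]
  refine ((Submodule.quotEquivOfEq _ _ (congrArg (fun I : Ideal _ => (I • ⊤ : Submodule _ _)) e1)).isSMulRegular_congr _).2 ?_
  intro a b hab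
  refine h0 ?_
  obtain ⟨a, rfl⟩ := Submodule.Quotient.mk_surjective _ a
  obtain ⟨b, rfl⟩ := Submodule.Quotient.mk_surjective _ b
  simp only [← Submodule.Quotient.mk_smul, Submodule.Quotient.eq, smul_eq_mul, Ideal.mul_top,
    Fin.getElem_fin, List.getElem_ofFn] at hab ⊢
  have hd : PowerSeries.coeff (N + i) (W E k) - tri E k N ⟨i, hi'⟩ ∈
      Ideal.ofList ((List.ofFn (tri E k N)).take i) := by
    rw [ofList_take]; exact sub_mem E k N ⟨i, hi'⟩
  have h1 := Ideal.sub_mem _ hab (Ideal.mul_mem_right (a - b) _ hd)
  convert h1 using 1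
  ring

theorem isHomogeneous_coeff_W : ∀ k m : ℕ,
    (PowerSeries.coeff m (W (1 : PowerSeries T) k)).IsHomogeneous m := by
  intro k
  induction k with
  | zero =>
    intro m
    have : W (1 : PowerSeries T) 0 = 1 := by
      have h := W_mul_lin (1 : PowerSeries T) 0
      simpa [lin] using h
    rw [this, PowerSeries.coeff_one]
    split_ifs with h
    · subst h; exact isHomogeneous_one _ _
    · exact isHomogeneous_zero _ _ _
  | succ k ih =>
    intro m
    induction m with
    | zero => rw [coeff_W_zero _ (by simp)]; exact isHomogeneous_one _ _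
    | succ m hm =>
      rw [coeff_W_succ]
      exact (ih _).rename_isHomogeneous.add (by simpa [add_comm 1 m] using (isHomogeneous_X T 0).mul hm)

theorem isHomogeneous_tri : ∀ (k N : ℕ) (i : Fin k),
    (tri (1 : PowerSeries T) k N i).IsHomogeneous (N + i) := by
  intro k
  induction k with
  | zero => intro N i; exact i.elim0
  | succ k ih =>
    intro N i
    refine Fin.cases ?_ (fun j => ?_) i
    · simpa [tri] using isHomogeneous_coeff_W (T := T) (k + 1) N
    · simpa [tri, add_assoc, add_comm 1 (j : ℕ)] using (ih (N + 1) j).rename_isHomogeneous (f := Fin.succ)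

end GrothLib.GrassPres27
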