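import Mathlib.RingTheory.AdjoinRoot
import Mathlib.Algebra.MvPolynomial.Equiv
import Mathlib.RingTheory.Regular.RegularSequence
import Mathlib.RingTheory.Regular.Flat
import Mathlib.RingTheory.Polynomial.Basic
import Mathlib.RingTheory.AlgebraTower
import Mathlib.LinearAlgebra.Pi
import Mathlib.RingTheory.Regular.IsSMulRegular

/-!
# Triangular systems of monic equations

A system `f_i` in which `f_i` is monic in `x_i` with coefficients in the later variables is a
regular sequence and the quotient is free on the standard monomials.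
-/

set_option autoImplicit false

noncomputable section

universe u

open MvPolynomial RingTheory.Sequence

namespace GrothLib.GrassPres27

variable {T : Type u} [CommRing T]

/-- `f i` is monic of degree `d i` in `x i` with coefficients in the variables after `i`. -/
def IsTri : ∀ k : ℕ, (Fin k → ℕ) → (Fin k → MvPolynomial (Fin k) T) → Prop
  | 0, _, _ => True
  | k + 1, d, f => (finSuccEquiv T k (f 0)).Monic ∧ (finSuccEquiv T k (f 0)).natDegree = d 0 ∧
      ∃ f' : Fin k → MvPolynomial (Fin k) T,
        IsTri k (fun i => d i.succ) f' ∧ ∀ i, f i.succ = rename Fin.succ (f' i)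

/-- The standard monomial with exponents `a`. -/
def stdMon {k : ℕ} {d : Fin k → ℕ} (a : ∀ i, Fin (d i)) : MvPolynomial (Fin k) T :=
  ∏ i, X i ^ (a i : ℕ)

theorem rename_succ_eq (k : ℕ) (q : MvPolynomial (Fin k) T) :
    finSuccEquiv T k (rename Fin.succ q) = Polynomial.C q := by
  induction q using MvPolynomial.induction_on with
  | C a => simp [finSuccEquiv_apply]
  | add p q hp hq => rw [map_add, map_add, map_add, hp, hq]
  | mul_X p i hp => rw [map_mul, map_mul, map_mul, hp, rename_X, finSuccEquiv_X_succ]

theorem isWeaklyRegular_cons_of_monic {A : Type u} [CommRing A] {p : Polynomial A} (hp : p.Monic)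
    {rs : List A} (h : IsWeaklyRegular A rs) :
    IsWeaklyRegular (Polynomial A) (p :: rs.map Polynomial.C) := by
  rw [isWeaklyRegular_cons_iff]
  refine ⟨fun x y hxy => hp.isRegular.left hxy, ?_⟩
  have e : QuotSMulTop p (Polynomial A) ≃ₗ[Polynomial A] (Polynomial A ⧸ Ideal.span {p}) :=
    Submodule.quotEquivOfEq _ _ (by simp [← Submodule.ideal_span_singleton_smul])
  rw [e.isWeaklyRegular_congr]
  haveI : Module.Free A (Polynomial A ⧸ Ideal.span {p}) := Module.Free.of_basis (AdjoinRoot.powerBasis' hp).basis
  have h2 : IsWeaklyRegular (Polynomial A ⧸ Ideal.span {p})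
      (rs.map (algebraMap A (Polynomial A ⧸ Ideal.span {p}))) := h.of_flat
  rw [isWeaklyRegular_map_algebraMap_iff] at h2
  rwa [← Polynomial.algebraMap_eq, isWeaklyRegular_map_algebraMap_iff]

/-- A triangular system is a regular sequence. -/
theorem IsTri.isWeaklyRegular : ∀ (k : ℕ) (d : Fin k → ℕ) (f : Fin k → MvPolynomial (Fin k) T),
    IsTri k d f → IsWeaklyRegular (MvPolynomial (Fin k) T) (List.ofFn f) := by
  intro k
  induction k with
  | zero => intro d f _; simp
  | succ k ih =>
    rintro d f ⟨hm, -, f', hf', hff⟩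
    have h := isWeaklyRegular_cons_of_monic hm (ih _ f' hf')
    let e := finSuccEquiv T k
    refine ((e.toRingEquiv.toAddEquiv.isWeaklyRegular_congr (as := List.ofFn f)
      (bs := e (f 0) :: (List.ofFn f').map Polynomial.C) ?_)).2 h
    rw [List.ofFn_succ, List.map_ofFn]
    refine List.Forall₂.cons (fun x => map_mul e _ _) (List.forall₂_iff_get.2 ⟨by simp, fun i h₁ h₂ x => ?_⟩)
    simp only [List.get_eq_getElem, List.getElem_ofFn, Function.comp_apply]
    rw [← rename_succ_eq, ← hff]
    exact map_mul e _ _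

/-- The quotient by a triangular system is free on the standard monomials. -/
theorem IsTri.exists_basis : ∀ (k : ℕ) (d : Fin k → ℕ) (f : Fin k → MvPolynomial (Fin k) T),
    IsTri k d f → ∃ b : Module.Basis (∀ i, Fin (d i)) T (MvPolynomial (Fin k) T ⧸ Ideal.span (Set.range f)),
      ∀ a, b a = Ideal.Quotient.mk _ (stdMon a) := by
  intro k
  induction k with
  | zero =>
    intro d f _
    have h : Ideal.span (Set.range f) = ⊥ := by rw [Set.range_eq_empty, Ideal.span_empty]
    let e : T ≃ₐ[T] (MvPolynomial (Fin 0) T ⧸ Ideal.span (Set.range f)) :=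
      (MvPolynomial.isEmptyAlgEquiv T (Fin 0)).symm.trans
        ((AlgEquiv.quotientBot T (MvPolynomial (Fin 0) T)).symm.trans (Ideal.quotientEquivAlgOfEq T h.symm))
    refine ⟨(Module.Basis.singleton (∀ i, Fin (d i)) T).map e.toLinearEquiv, fun a => ?_⟩
    rw [Module.Basis.map_apply, Module.Basis.singleton_apply]
    change e 1 = _
    rw [map_one, stdMon, Finset.univ_eq_empty, Finset.prod_empty, map_one]
  | succ k ih =>
    rintro d f ⟨hm, hdeg, f', hf', hff⟩
    obtain ⟨b', hb'⟩ := ih _ f' hf'
    let A := MvPolynomial (Fin k) T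
    let I' : Ideal A := Ideal.span (Set.range f')
    rcases subsingleton_or_nontrivial (A ⧸ I') with hsub | hnt
    · -- everything vanishes
      haveI : Subsingleton (MvPolynomial (Fin (k + 1)) T ⧸ Ideal.span (Set.range f)) := by
        rw [Ideal.Quotient.subsingleton_iff, Ideal.eq_top_iff_one]
        have h1 : (1 : A) ∈ I' := by
          rw [Ideal.Quotient.subsingleton_iff.1 hsub]; trivial
        have h2 := Ideal.mem_map_of_mem (rename Fin.succ : A →ₐ[T] MvPolynomial (Fin (k + 1)) T) h1
        rw [map_one, Ideal.map_span] at h2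
        refine Ideal.span_mono ?_ h2
        rintro _ ⟨_, ⟨i, rfl⟩, rfl⟩
        exact ⟨i.succ, hff i⟩
      rcases subsingleton_or_nontrivial T with hT | hT
      · exact ⟨Module.Basis.ofEquivFun
          { toFun := fun _ => 0, map_add' := fun _ _ => by simp, map_smul' := fun _ _ => by simp
            invFun := fun _ => 0, left_inv := fun _ => Subsingleton.elim _ _
            right_inv := fun _ => Subsingleton.elim _ _ }, fun a => Subsingleton.elim _ _⟩
      haveI : IsEmpty (∀ i : Fin k, Fin (d i.succ)) :=
        ⟨fun a => b'.ne_zero a (Subsingleton.elim _ _)⟩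
      haveI : IsEmpty (∀ i, Fin (d i)) := ⟨fun a => IsEmpty.false fun i : Fin k => a i.succ⟩
      exact ⟨Module.Basis.empty _, fun a => isEmptyElim a⟩
    let p := finSuccEquiv T k (f 0)
    let p' := p.map (Ideal.Quotient.mk I')
    have hp' : p'.Monic := hm.map _
    have hdeg' : p'.natDegree = d 0 := by rw [hm.natDegree_map]; exact hdeg
    let Φ : MvPolynomial (Fin (k + 1)) T →ₐ[T] AdjoinRoot p' :=
      ((AdjoinRoot.mkₐ p').restrictScalars T).comp
        ((Polynomial.mapAlgHom (Ideal.Quotient.mkₐ T I')).comp (finSuccEquiv T k).toAlgHom)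
    have hΦ : Function.Surjective Φ := AdjoinRoot.mk_surjective.comp
      ((Polynomial.map_surjective _ Ideal.Quotient.mk_surjective).comp (finSuccEquiv T k).surjective)
    have hker : RingHom.ker Φ.toRingHom = Ideal.span (Set.range f) := by
      refine le_antisymm (fun x hx => ?_) (Ideal.span_le.2 ?_)
      · change AdjoinRoot.mk p' ((finSuccEquiv T k x).map (Ideal.Quotient.mk I')) = 0 at hx
        obtain ⟨q, hq⟩ := AdjoinRoot.mk_eq_zero.1 hx
        obtain ⟨q, rfl⟩ := Polynomial.map_surjective (Ideal.Quotient.mk I') Ideal.Quotient.mk_surjective q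
        have h1 : finSuccEquiv T k x - p * q ∈ I'.map (Polynomial.C : A →+* Polynomial A) := by
          rw [← Ideal.mk_ker (I := I'), ← Polynomial.ker_mapRingHom, RingHom.mem_ker]
          simp [hq, p', Polynomial.map_mul]
        have h2 := Ideal.mem_map_of_mem (finSuccEquiv T k).symm h1
        rw [map_sub, map_mul, AlgEquiv.symm_apply_apply, AlgEquiv.symm_apply_apply, Ideal.map_span,
          Ideal.map_span] at h2
        have h3 : x - f 0 * (finSuccEquiv T k).symm q ∈ Ideal.span (Set.range f) := by
          refine Ideal.span_mono ?_ h2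
          rintro _ ⟨_, ⟨_, ⟨i, rfl⟩, rfl⟩, rfl⟩
          refine ⟨i.succ, (AlgEquiv.eq_symm_apply _).2 ?_⟩
          rw [hff, rename_succ_eq]
        have := Ideal.add_mem _ h3 (Ideal.mul_mem_right ((finSuccEquiv T k).symm q) _
          (Ideal.subset_span ⟨0, rfl⟩ : f 0 ∈ Ideal.span (Set.range f)))
        rwa [sub_add_cancel] at this
      · rintro _ ⟨i, rfl⟩
        change AdjoinRoot.mk p' ((finSuccEquiv T k (f i)).map (Ideal.Quotient.mk I')) = 0
        refine Fin.cases ?_ (fun j => ?_) i
        · exact AdjoinRoot.mk_self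
        · rw [hff, rename_succ_eq, Polynomial.map_C,
            Ideal.Quotient.eq_zero_iff_mem.2 (show f' j ∈ I' from Ideal.subset_span ⟨j, rfl⟩)]
          simp
    let E : (MvPolynomial (Fin (k + 1)) T ⧸ Ideal.span (Set.range f)) ≃ₐ[T] AdjoinRoot p' :=
      (Ideal.quotientEquivAlgOfEq T hker.symm).trans (Ideal.quotientKerAlgEquivOfSurjective (f := Φ) hΦ)
    let ee : (∀ i, Fin (d i)) ≃ (∀ i : Fin k, Fin (d i.succ)) × Fin (AdjoinRoot.powerBasis' hp').dim :=
      ((Fin.consEquiv fun i => Fin (d i)).symm.trans (Equiv.prodComm _ _)).trans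
        (Equiv.prodCongr (Equiv.refl _) (finCongr (show d 0 = (AdjoinRoot.powerBasis' hp').dim from hdeg'.symm)))
    refine ⟨((b'.smulTower (AdjoinRoot.powerBasis' hp').basis).reindex ee.symm).map E.symm.toLinearEquiv,
      fun a => ?_⟩
    rw [Module.Basis.map_apply, Module.Basis.reindex_apply]
    change E.symm ((b'.smulTower (AdjoinRoot.powerBasis' hp').basis) (ee a)) = _
    rw [Module.Basis.smulTower_apply]
    refine (AlgEquiv.symm_apply_eq E).2 ?_
    change _ = Φ (stdMon a)
    rw [PowerBasis.basis_eq_pow, AdjoinRoot.powerBasis'_gen, hb', Algebra.smul_def]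
    conv_rhs => rw [stdMon, Fin.prod_univ_succ, map_mul, map_pow, mul_comm]
    refine congrArg₂ (· * ·) ?_ ?_
    · simp only [stdMon, map_prod, map_pow]
      refine Finset.prod_congr rfl fun j _ => ?_
      change _ = AdjoinRoot.mk p' ((finSuccEquiv T k (X j.succ)).map (Ideal.Quotient.mk I')) ^ _
      rw [finSuccEquiv_X_succ, Polynomial.map_C]
      rfl
    · change _ = AdjoinRoot.mk p' ((finSuccEquiv T k (X 0)).map (Ideal.Quotient.mk I')) ^ _
      rw [finSuccEquiv_X_zero, Polynomial.map_X, AdjoinRoot.mk_X]
      rfl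

/-- Retracts of weakly regular modules. -/
theorem isWeaklyRegular_of_retract {R : Type u} [CommRing R] : ∀ (rs : List R) {M N : Type u}
    [AddCommGroup M] [Module R M] [AddCommGroup N] [Module R N] (i : M →ₗ[R] N) (p : N →ₗ[R] M)
    (_ : p ∘ₗ i = LinearMap.id), IsWeaklyRegular N rs → IsWeaklyRegular M rs := by
  intro rs
  induction rs with
  | nil => intro M N _ _ _ _ i p _ _; simp
  | cons r rs ih =>
    intro M N _ _ _ _ i p h hN
    rw [isWeaklyRegular_cons_iff] at hN ⊢
    refine ⟨fun x y hxy => ?_, ih (QuotSMulTop.map r i) (QuotSMulTop.map r p)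
      (by rw [← QuotSMulTop.map_comp, h, QuotSMulTop.map_id]) hN.2⟩
    have h1 : i x = i y := hN.1 (by simpa using congrArg i hxy)
    simpa [← LinearMap.comp_apply, h] using congrArg p h1

end GrothLib.GrassPres27
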